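-- Team project FW (S3211): square roots of an element of order 4 in SL_2 (helper37).
import Mathlib

/-!
# Square roots in `SL₂(F)` of an element with square `-1`

If `U` has determinant `1`, `U * U = X` and `X * X = -1` (characteristic not 2), then
`(tr U)² = 2` and `U = (tr U)⁻¹ • (X + 1)`; hence `X` has at most two such square roots.
-/

set_option autoImplicit false

namespace Cfsg.Agent.Lib.Helper37.FW

universe u

variable {F : Type u} [Field F]

/-- Cayley–Hamilton for `2 × 2` matrices. -/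
theorem ch_two (M : Matrix (Fin 2) (Fin 2) F) : M * M = M.trace • M - M.det • (1 : Matrix (Fin 2) (Fin 2) F) := by
  ext i j
  fin_cases i <;> fin_cases j <;>
    simp [Matrix.mul_apply, Fin.sum_univ_two, Matrix.trace_fin_two, Matrix.det_fin_two] <;> ring

theorem sqrt_matrix_core (h2 : (2 : F) ≠ 0) (U X : Matrix (Fin 2) (Fin 2) F) (hU : U.det = 1)
    (hUX : U * U = X) (hX : X * X = -1) :
    U.trace ^ 2 = 2 ∧ U = U.trace⁻¹ • (X + 1) := by
  have hUU : U * U = U.trace • U - (1 : Matrix (Fin 2) (Fin 2) F) := by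
    rw [ch_two U, hU, one_smul]
  have hXdet : X.det = 1 := by rw [← hUX, Matrix.det_mul, hU, mul_one]
  have hXX : X * X = X.trace • X - (1 : Matrix (Fin 2) (Fin 2) F) := by
    rw [ch_two X, hXdet, one_smul]
  have hTX : X.trace • X = 0 := by
    have : X.trace • X - (1 : Matrix (Fin 2) (Fin 2) F) = -1 := by rw [← hXX, hX]
    have h3 : X.trace • X = X.trace • X - (1 : Matrix (Fin 2) (Fin 2) F) + 1 := by abel
    rw [h3, this]
    simp
  have hT : X.trace = 0 := by
    by_contra hne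
    have hX0 : X = 0 := by
      have := congrArg (fun M => X.trace⁻¹ • M) hTX
      simpa [smul_smul, inv_mul_cancel₀ hne] using this
    rw [hX0] at hXdet
    simp at hXdet
  have hτ : U.trace ^ 2 = 2 := by
    have h4 : X.trace = U.trace * U.trace - 2 := by
      rw [← hUX, hUU, Matrix.trace_sub, Matrix.trace_smul, Matrix.trace_one]
      simp
    rw [hT] at h4
    linear_combination -h4
  have hτ0 : U.trace ≠ 0 := by
    intro h0
    rw [h0] at hτ
    exact h2 (by linear_combination -hτ)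
  refine ⟨hτ, ?_⟩
  have h5 : X + 1 = U.trace • U := by
    rw [← hUX, hUU]
    abel
  rw [h5, smul_smul, inv_mul_cancel₀ hτ0, one_smul]

/-- Among three square roots (of determinant 1) of `X` with `X * X = -1`, two coincide. -/
theorem sqrt_matrix_three (h2 : (2 : F) ≠ 0) (U₁ U₂ U₃ X : Matrix (Fin 2) (Fin 2) F)
    (h₁ : U₁.det = 1) (h₂ : U₂.det = 1) (h₃ : U₃.det = 1)
    (e₁ : U₁ * U₁ = X) (e₂ : U₂ * U₂ = X) (e₃ : U₃ * U₃ = X) (hX : X * X = -1) :
    U₁ = U₂ ∨ U₁ = U₃ ∨ U₂ = U₃ := by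
  obtain ⟨t₁, r₁⟩ := sqrt_matrix_core h2 U₁ X h₁ e₁ hX
  obtain ⟨t₂, r₂⟩ := sqrt_matrix_core h2 U₂ X h₂ e₂ hX
  obtain ⟨t₃, r₃⟩ := sqrt_matrix_core h2 U₃ X h₃ e₃ hX
  have key : ∀ a b : F, a ^ 2 = 2 → b ^ 2 = 2 → a = b ∨ a = -b := by
    intro a b ha hb
    have : (a - b) * (a + b) = 0 := by linear_combination ha - hb
    rcases mul_eq_zero.mp this with h | h
    · exact Or.inl (sub_eq_zero.mp h)
    · exact Or.inr (eq_neg_of_add_eq_zero_left h)
  have eq_of : ∀ (V W : Matrix (Fin 2) (Fin 2) F), V = V.trace⁻¹ • (X + 1) →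
      W = W.trace⁻¹ • (X + 1) → V.trace = W.trace → V = W := by
    intro V W hV hW hVW
    rw [hV, hW, hVW]
  rcases key _ _ t₁ t₂ with h12 | h12
  · exact Or.inl (eq_of _ _ r₁ r₂ h12)
  · rcases key _ _ t₁ t₃ with h13 | h13
    · exact Or.inr (Or.inl (eq_of _ _ r₁ r₃ h13))
    · refine Or.inr (Or.inr (eq_of _ _ r₂ r₃ ?_))
      have : -U₂.trace = -U₃.trace := by rw [← h12, ← h13]
      exact neg_injective this

end Cfsg.Agent.Lib.Helper37.FW
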