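-- Team project FW (S3211), package [TRANS] (helper37).
import Mathlib
import Cfsg.Agent.Lib.Helper44.FW.Defs

/-!
# FW, [TRANS]: transport of the `SL₂` facts to a subgroup `L ≅ SL₂(F)`
-/

set_option autoImplicit false

namespace Cfsg.Agent.Lib.Helper37.FW

open Cfsg.Agent.Lib.Helper44.FW

universe u v

theorem qA_sq (F : Type v) [Field F] : qA F ^ 2 = negOne F := by
  apply Subtype.ext
  rw [sq, Matrix.SpecialLinearGroup.coe_mul]
  simp only [qA, negOne]
  ext i j
  fin_cases i <;> fin_cases j <;> simp [Matrix.mul_apply, Fin.sum_univ_two]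

/-- [TRANS] -/
theorem pkgTrans (hU : PkgSL2U.{v}) (hSQ : PkgSL2SQ.{v}) : PkgTrans.{u, v} := by
  intro G _ F _ _ hodd L ⟨e⟩ j hjL hj
  have h2 : (2 : F) ≠ 0 := by
    intro h
    obtain ⟨k, hk⟩ := hodd
    have h0 := Nat.cast_card_eq_zero F
    rw [hk] at h0
    push_cast at h0
    rw [h] at h0
    simp at h0
  have hjL2 : (⟨j, hjL⟩ : L) ^ 2 = 1 := by
    apply Subtype.ext
    show j ^ 2 = 1
    rw [← hj]
    exact pow_orderOf_eq_one j
  have hjL1 : (⟨j, hjL⟩ : L) ≠ 1 := by
    intro h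
    have : j = 1 := congrArg Subtype.val h
    rw [this, orderOf_one] at hj
    omega
  have hej : e ⟨j, hjL⟩ = negOne F := by
    rcases hU F h2 (e ⟨j, hjL⟩) (by rw [← map_pow, hjL2, map_one]) with h | h
    · exact absurd (e.injective (h.trans (map_one e).symm)) hjL1
    · exact h
  refine ⟨?_, ?_, ?_⟩
  · intro x hx hx2
    have hx2' : (⟨x, hx⟩ : L) ^ 2 = 1 := Subtype.ext hx2
    rcases hU F h2 (e ⟨x, hx⟩) (by rw [← map_pow, hx2', map_one]) with h | h
    · left
      exact congrArg Subtype.val (e.injective (h.trans (map_one e).symm))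
    · right
      exact congrArg Subtype.val (e.injective (h.trans hej.symm))
  · refine ⟨(e.symm (qA F) : L), (e.symm (qA F)).2, ?_⟩
    have : (e.symm (qA F)) ^ 2 = (⟨j, hjL⟩ : L) := by
      rw [← map_pow, qA_sq, ← hej, MulEquiv.symm_apply_apply]
    exact congrArg Subtype.val this
  · intro x hx hx2 u hu u' hu' hux hux'
    have e1 : (e ⟨x, hx⟩) ^ 2 = negOne F := by
      rw [← map_pow, ← hej]
      congr 1
      exact Subtype.ext hx2
    have e2 : (e ⟨u, hu⟩) ^ 2 = e ⟨x, hx⟩ := by
      rw [← map_pow]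
      congr 1
      exact Subtype.ext hux
    have e3 : (e ⟨u', hu'⟩) ^ 2 = e ⟨x, hx⟩ := by
      rw [← map_pow]
      congr 1
      exact Subtype.ext hux'
    rcases hSQ F h2 _ _ _ e1 e2 e3 with h | h
    · left
      exact congrArg Subtype.val (e.injective h)
    · right
      have : e ⟨u', hu'⟩ = e (⟨u, hu⟩ * ⟨j, hjL⟩) := by
        rw [map_mul, hej]
        exact h
      exact congrArg Subtype.val (e.injective this)

end Cfsg.Agent.Lib.Helper37.FW
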